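import Groth.Agent.AvgPoint.Global
import Groth.Agent.SmoothLiftLib.Nbhd
/-!
Fixed points lift along nilpotent thickenings of affine schemes into smooth schemes; transporters.
-/

set_option autoImplicit false
set_option backward.isDefEq.respectTransparency false
set_option backward.isDefEq.respectTransparency.types false
set_option linter.style.haveILetI false

universe u

open CategoryTheory CategoryTheory.Limits MonoidalCategory CartesianMonoidalCategory MonObj AlgebraicGeometry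

noncomputable section

namespace Groth.Agent.AvgPoint

open FixedSmooth

variable {R : CommRingCat.{u}} {H G : Over (Spec R)} [GrpObj H]

/-- The quotient map, as a morphism of rings. -/
abbrev mkN {B : CommRingCat.{u}} (N : Ideal B) : B ⟶ CommRingCat.of (B ⧸ N) := CommRingCat.ofHom (Ideal.Quotient.mk N)

theorem fixedMod_of_isFixed (act : H ⊗ G ⟶ G) {B : CommRingCat.{u}} {q : Spec B ⟶ Spec R} (N : Ideal B)
    (x : Over.mk q ⟶ G) (h : IsFixed act (red q (mkN N) ≫ x)) : FixedMod act N x := fun {B'} g hg => by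
  let g' : CommRingCat.of (B ⧸ N) ⟶ B' :=
    CommRingCat.ofHom (Ideal.Quotient.lift N g.hom fun r hr => RingHom.mem_ker.1 (hg hr))
  have e : mkN N ≫ g' = g := CommRingCat.hom_ext (RingHom.ext fun r => rfl)
  let k : Over.mk (Spec.map g ≫ q) ⟶ Over.mk (Spec.map (mkN N) ≫ q) :=
    Over.homMk (Spec.map g') (by show Spec.map g' ≫ Spec.map (mkN N) ≫ q = _; rw [← Category.assoc, ← Spec.map_comp, e]; rfl)
  have e2 : red q g ≫ x = k ≫ red q (mkN N) ≫ x := by
    apply Over.OverMorphism.ext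
    show Spec.map g ≫ x.left = Spec.map g' ≫ Spec.map (mkN N) ≫ x.left
    rw [← Category.assoc, ← Spec.map_comp, e]
  rw [e2]
  exact isFixed_comp h k

/-- Fixed points lift along nilpotent thickenings when the target is smooth. -/
theorem exists_fixed_lift_smooth (hH : TrivAct.HasSplitCovers H) (act : H ⊗ G ⟶ G)
    (hact : ∀ (X : Over (Spec R)) (h h' : X ⟶ H) (x : X ⟶ G),
      lift h (lift h' x ≫ act) ≫ act = lift (h * h') x ≫ act) [Smooth G.hom] :
    ∀ (n : ℕ) (B : CommRingCat.{u}) (q : Spec B ⟶ Spec R) (N : Ideal B), N ^ (n + 1) = ⊥ →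
      ∀ x₀ : Over.mk (Spec.map (mkN N) ≫ q) ⟶ G, IsFixed act x₀ →
        ∃ x : Over.mk q ⟶ G, IsFixed act x ∧ red q (mkN N) ≫ x = x₀ := by
  intro n
  induction n with
  | zero =>
    intro B q N hN x₀ hx₀
    rw [zero_add, pow_one] at hN
    let e : CommRingCat.of (B ⧸ N) ⟶ B :=
      CommRingCat.ofHom (Ideal.Quotient.lift N (RingHom.id B) fun r hr => by rw [hN, Ideal.mem_bot] at hr; exact hr)
    have e1 : mkN N ≫ e = 𝟙 B := CommRingCat.hom_ext (RingHom.ext fun r => rfl)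
    have e2 : e ≫ mkN N = 𝟙 _ := CommRingCat.hom_ext (RingHom.ext fun r => by
      obtain ⟨r, rfl⟩ := Ideal.Quotient.mk_surjective r
      rfl)
    let k : Over.mk q ⟶ Over.mk (Spec.map (mkN N) ≫ q) := Over.homMk (Spec.map e) (by
      show Spec.map e ≫ Spec.map (mkN N) ≫ q = q
      rw [← Category.assoc, ← Spec.map_comp, e1, Spec.map_id, Category.id_comp])
    refine ⟨k ≫ x₀, isFixed_comp hx₀ k, ?_⟩
    apply Over.OverMorphism.ext
    show Spec.map (mkN N) ≫ Spec.map e ≫ x₀.left = x₀.left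
    rw [← Category.assoc, ← Spec.map_comp, e2, Spec.map_id]
    exact Category.id_comp _
  | succ n ih =>
    intro B q N hN x₀ hx₀
    let K : Ideal B := N ^ (n + 1)
    have hK : K ^ 2 = ⊥ := by
      refine le_bot_iff.1 ?_
      rw [← hN, ← pow_mul]
      exact Ideal.pow_le_pow_right (by omega)
    have hKN : K ≤ N := Ideal.pow_le_self (by omega)
    let N₁ : Ideal (B ⧸ K) := N.map (Ideal.Quotient.mk K)
    have hN₁ : N₁ ^ (n + 1) = ⊥ := by
      rw [← Ideal.map_pow]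
      exact Ideal.map_quotient_self K
    let B₁ : CommRingCat.{u} := CommRingCat.of (B ⧸ K)
    let e : CommRingCat.of (B ⧸ N) ⟶ CommRingCat.of (B₁ ⧸ N₁) :=
      CommRingCat.ofHom (Ideal.Quotient.lift N ((Ideal.Quotient.mk N₁).comp (Ideal.Quotient.mk K)) fun r hr =>
        Ideal.Quotient.eq_zero_iff_mem.2 (Ideal.mem_map_of_mem _ hr))
    let p : B₁ ⟶ CommRingCat.of (B ⧸ N) :=
      CommRingCat.ofHom (Ideal.Quotient.factor hKN)
    let p' : CommRingCat.of (B₁ ⧸ N₁) ⟶ CommRingCat.of (B ⧸ N) :=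
      CommRingCat.ofHom (Ideal.Quotient.lift N₁ p.hom fun r hr => by
        have : N₁ ≤ RingHom.ker p.hom := Ideal.map_le_iff_le_comap.2 fun s hs => by
          show Ideal.Quotient.mk N s = 0
          exact Ideal.Quotient.eq_zero_iff_mem.2 hs
        exact RingHom.mem_ker.1 (this hr))
    have hp : mkN K ≫ p = mkN N := CommRingCat.hom_ext (RingHom.ext fun r => rfl)
    have hp' : mkN N₁ ≫ p' = p := CommRingCat.hom_ext (RingHom.ext fun r => rfl)
    have he : e ≫ p' = 𝟙 _ := CommRingCat.hom_ext (RingHom.ext fun r => by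
      obtain ⟨r, rfl⟩ := Ideal.Quotient.mk_surjective r
      rfl)
    have hNe : mkN N ≫ e = mkN K ≫ mkN N₁ := CommRingCat.hom_ext (RingHom.ext fun r => rfl)
    let q₁ : Spec B₁ ⟶ Spec R := Spec.map (mkN K) ≫ q
    let k : Over.mk (Spec.map (mkN N₁) ≫ q₁) ⟶ Over.mk (Spec.map (mkN N) ≫ q) := Over.homMk (Spec.map e) (by
      show Spec.map e ≫ Spec.map (mkN N) ≫ q = Spec.map (mkN N₁) ≫ Spec.map (mkN K) ≫ q
      rw [← Category.assoc, ← Spec.map_comp, hNe, Spec.map_comp, Category.assoc])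
    obtain ⟨x₁, hx₁, hx₁e⟩ := ih B₁ q₁ N₁ hN₁ (k ≫ x₀) (isFixed_comp hx₀ k)
    obtain ⟨l, hl, hlq⟩ := SmoothLiftLib.isFormallySmoothHom_of_smooth G.hom B K hK x₁.left q (Over.w x₁).symm
    obtain ⟨x, hxf, hxc⟩ := exists_fixed_congr hH act hact K hK (Over.homMk l hlq : Over.mk q ⟶ G)
      (fixedMod_of_isFixed act K _ (by
        have : red q (mkN K) ≫ (Over.homMk l hlq : Over.mk q ⟶ G) = x₁ := Over.OverMorphism.ext hl
        rw [this]
        exact hx₁))
    refine ⟨x, hxf, ?_⟩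
    apply Over.OverMorphism.ext
    show Spec.map (mkN N) ≫ x.left = x₀.left
    have h1 : Spec.map (mkN N₁) ≫ x₁.left = Spec.map e ≫ x₀.left := congrArg CommaMorphism.left hx₁e
    rw [hxc (mkN N) (by
      show K ≤ RingHom.ker (Ideal.Quotient.mk N)
      rw [Ideal.mk_ker]; exact hKN)]
    show Spec.map (mkN N) ≫ l = x₀.left
    refine Eq.trans (show Spec.map (mkN N) ≫ l = Spec.map p ≫ Spec.map (mkN K) ≫ l by
      rw [← Category.assoc, ← Spec.map_comp, hp]) ?_
    refine (congrArg (Spec.map p ≫ ·) hl).trans ?_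
    rw [← hp', Spec.map_comp, Category.assoc, h1, ← Category.assoc, ← Spec.map_comp, he, Spec.map_id]
    exact Category.id_comp _

variable [GrpObj G]

/-- Transporter points lift along nilpotent thickenings. -/
theorem exists_conj_lift (hH : TrivAct.HasSplitCovers H) [Smooth G.hom] (J : Ideal R) (hJ : IsNilpotent J)
    (u v : H ⟶ G) [IsMonHom u] [IsMonHom v]
    (g₀ : Over.mk (Spec.map (mkN J)) ⟶ G)
    (h0 : ∀ (X : Over (Spec R)) (p : X ⟶ Over.mk (Spec.map (mkN J))) (h : X ⟶ H),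
      h ≫ v = (p ≫ g₀) * (h ≫ u) * (p ≫ g₀)⁻¹) :
    ∃ g : 𝟙_ (Over (Spec R)) ⟶ G, toUnit (Over.mk (Spec.map (mkN J))) ≫ g = g₀ ∧
      ∀ (X : Over (Spec R)) (h : X ⟶ H), h ≫ v = (toUnit X ≫ g) * (h ≫ u) * (toUnit X ≫ g)⁻¹ := by
  obtain ⟨n, hn⟩ := hJ
  let q : Spec R ⟶ Spec R := 𝟙 _
  let e : Over.mk (Spec.map (mkN J) ≫ q) ⟶ Over.mk (Spec.map (mkN J)) :=
    Over.homMk (𝟙 _) (by show 𝟙 _ ≫ Spec.map (mkN J) = _ ≫ 𝟙 _; rw [Category.id_comp]; exact (Category.comp_id _).symm)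
  have hpow : J ^ (n + 1) = ⊥ := by rw [pow_succ, hn]; simp
  obtain ⟨x, hx, hxx⟩ := exists_fixed_lift_smooth hH (conjAct u v) (conjAct_act u v) n R q J hpow (e ≫ g₀)
    (fun X' s h => (fixed_iff u v h _).2 (by rw [← Category.assoc]; exact (h0 X' (s ≫ e) h).symm))
  refine ⟨(Over.homMk (𝟙 _) (Category.comp_id _) : 𝟙_ (Over (Spec R)) ⟶ Over.mk q) ≫ x, ?_, fun X h => ?_⟩
  · apply Over.OverMorphism.ext
    have h1 : Spec.map (mkN J) ≫ x.left = 𝟙 _ ≫ g₀.left := congrArg CommaMorphism.left hxx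
    show (toUnit (Over.mk (Spec.map (mkN J)))).left ≫ 𝟙 _ ≫ x.left = g₀.left
    rw [show (toUnit (Over.mk (Spec.map (mkN J)))).left = Spec.map (mkN J) from rfl]
    simpa using h1
  · rw [← Category.assoc]
    exact ((fixed_iff u v h _).1 (hx X _ h)).symm

/-- Homomorphisms congruent modulo a square-zero ideal are conjugate. -/
theorem exists_conj_of_congr (hH : TrivAct.HasSplitCovers H) (J : Ideal R) (hJ : J ^ 2 = ⊥)
    (u v : H ⟶ G) [IsMonHom u] [IsMonHom v]
    (h0 : ∀ (X : Over (Spec R)) (_ : X ⟶ Over.mk (Spec.map (mkN J))) (h : X ⟶ H), h ≫ u = h ≫ v) :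
    ∃ g : 𝟙_ (Over (Spec R)) ⟶ G, toUnit (Over.mk (Spec.map (mkN J))) ≫ g = 1 ∧
      ∀ (X : Over (Spec R)) (h : X ⟶ H), h ≫ v = (toUnit X ≫ g) * (h ≫ u) * (toUnit X ≫ g)⁻¹ := by
  let q : Spec R ⟶ Spec R := 𝟙 _
  obtain ⟨x, hx, hxc⟩ := exists_fixed_congr hH (conjAct u v) (conjAct_act u v) J hJ (1 : Over.mk q ⟶ G)
    (fixedMod_of_isFixed _ J _ (fun X' s h => (fixed_iff u v h _).2 (by
      rw [MonObj.comp_one, MonObj.comp_one, _root_.one_mul, inv_one, _root_.mul_one]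
      exact h0 X' (s ≫ Over.homMk (𝟙 _) (by
        show 𝟙 _ ≫ Spec.map (mkN J) = _ ≫ 𝟙 _
        rw [Category.id_comp]; exact (Category.comp_id _).symm)) h)))
  refine ⟨(Over.homMk (𝟙 _) (Category.comp_id _) : 𝟙_ (Over (Spec R)) ⟶ Over.mk q) ≫ x, ?_, fun X h => ?_⟩
  · let r : Over.mk (Spec.map (mkN J)) ⟶ Over.mk q := Over.homMk (Spec.map (mkN J)) (Category.comp_id _)
    rw [show (1 : Over.mk (Spec.map (mkN J)) ⟶ G) = r ≫ 1 from (MonObj.comp_one r).symm]
    apply Over.OverMorphism.ext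
    show (toUnit (Over.mk (Spec.map (mkN J)))).left ≫ 𝟙 _ ≫ x.left = Spec.map (mkN J) ≫ (1 : Over.mk q ⟶ G).left
    rw [show (toUnit (Over.mk (Spec.map (mkN J)))).left = Spec.map (mkN J) from rfl,
      ← hxc (mkN J) (by show J ≤ RingHom.ker (Ideal.Quotient.mk J); rw [Ideal.mk_ker])]
    exact congrArg (Spec.map (mkN J) ≫ ·) (Category.id_comp _)
  · rw [← Category.assoc]
    exact ((fixed_iff u v h _).1 (hx X _ h)).symm

end Groth.Agent.AvgPoint
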