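import Groth.Agent.TrivAct.Descent
import Groth.Agent.FixedSmooth.GroupLike
/-!
The invariant component of the translate of a point by the universal point of a split group, in affine coordinates.
-/

set_option autoImplicit false
set_option backward.isDefEq.respectTransparency false
set_option backward.isDefEq.respectTransparency.types false
set_option linter.style.haveILetI false

universe u

open CategoryTheory CategoryTheory.Limits MonoidalCategory CartesianMonoidalCategory MonObj AlgebraicGeometry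

noncomputable section

namespace Groth.Agent.AvgPoint

open FixedSmooth

section Alg

variable {B : Type u} [CommRing B] {A A' : Type} [CommGroup A] [CommGroup A']

open MonoidAlgebra

/-- A group-like with an inverse change of variables has no constant component unless it is constant. -/
theorem coeff_one_eq_zero (Ψ : A →* MonoidAlgebra B A') (hΨ : ∀ m, IsGL (Ψ m)) (Ψ' : A' →* MonoidAlgebra B A)
    (hinv : ∀ m, L singleOneRingHom Ψ' (Ψ m) = single m 1) {m : A} (hm : m ≠ 1) : (Ψ m).coeff 1 = 0 := by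
  classical
  let e := (Ψ m).coeff 1
  have h : single 1 e * Ψ m = single 1 e := by
    ext k
    rw [coeff_single_one_mul, IsGL.coeff_mul (hΨ m) 1 k, coeff_single, Finsupp.single_apply]
  have h2 := congrArg (L singleOneRingHom Ψ') h
  rw [map_mul, hinv, L_single, map_one, _root_.mul_one] at h2
  have h3 := congrArg (fun w => w.coeff 1) h2
  simp [singleOneRingHom, Finsupp.single_apply, hm] at h3
  exact h3.symm

/-- Change of variables along such a family keeps the constant component. -/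
theorem coeff_one_L (Ψ : A →* MonoidAlgebra B A') (hΨ : ∀ m, IsGL (Ψ m)) (Ψ' : A' →* MonoidAlgebra B A)
    (hinv : ∀ m, L singleOneRingHom Ψ' (Ψ m) = single m 1) (w : MonoidAlgebra B A) :
    (L singleOneRingHom Ψ w).coeff 1 = w.coeff 1 := by
  classical
  induction w using MonoidAlgebra.induction_linear with
  | zero => simp
  | add a b ha hb => simp only [map_add, coeff_add, Finsupp.add_apply, ha, hb]
  | single k r =>
    rw [L_single]
    show (MonoidAlgebra.single 1 r * Ψ k).coeff 1 = _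
    rw [coeff_single_one_mul, coeff_single, Finsupp.single_apply]
    by_cases hk : k = 1
    · subst hk; simp [MonoidAlgebra.one_def]
    · rw [coeff_one_eq_zero Ψ hΨ Ψ' hinv hk, mul_zero, if_neg hk]

end Alg

variable {S : Scheme.{u}} {H G : Over S} [GrpObj H] {B : CommRingCat.{u}} {q : Spec B ⟶ S}
  {M : Type} [AddCommGroup M]

/-- The inclusion of constants. -/
abbrev s1 (B : CommRingCat.{u}) (M : Type) [AddCommGroup M] : B ⟶ CommRingCat.of (MonoidAlgebra B (Multiplicative M)) :=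
  CommRingCat.ofHom MonoidAlgebra.singleOneRingHom

/-- The universal translate of `x`. -/
def univ (σ : Split H q M) (act : H ⊗ G ⟶ G) (x : Over.mk q ⟶ G) :
    Spec (CommRingCat.of (MonoidAlgebra B (Multiplicative M))) ⟶ G.left :=
  Aw σ act (Spec.map (s1 B M)) (Spec.map (s1 B M) ≫ x.left)
    (by rw [Category.assoc]; exact congrArg (Spec.map (s1 B M) ≫ ·) (Over.w x))
    (MonoidAlgebra.of B (Multiplicative M))

/-- In the coordinates of `W`, the point `x'` is the invariant component of the universal translate of `x`. -/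
def IsAvgOn (σ : Split H q M) (act : H ⊗ G ⟶ G) (x : Over.mk q ⟶ G) (x' : Spec B ⟶ G.left) {W : G.left.Opens}
    (hW : IsAffineOpen W) : Prop :=
  ∃ (ψ : Γ(G.left, W) ⟶ CommRingCat.of (MonoidAlgebra B (Multiplicative M))) (φ : Γ(G.left, W) ⟶ B),
    Spec.map ψ ≫ hW.fromSpec = univ σ act x ∧ Spec.map φ ≫ hW.fromSpec = x' ∧
      ∀ c, φ.hom c = (ψ.hom c).coeff 1

theorem IsAvgOn.eq {σ : Split H q M} {act : H ⊗ G ⟶ G} {x : Over.mk q ⟶ G} {x' x'' : Spec B ⟶ G.left}
    {W : G.left.Opens} {hW : IsAffineOpen W} (h : IsAvgOn σ act x x' hW) (h' : IsAvgOn σ act x x'' hW) : x' = x'' := by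
  obtain ⟨ψ, φ, hψ, hφ, hc⟩ := h
  obtain ⟨ψ', φ', hψ', hφ', hc'⟩ := h'
  have e : ψ = ψ' := Spec.map_injective ((cancel_mono hW.fromSpec).1 (hψ.trans hψ'.symm))
  subst e
  have e' : φ = φ' := CommRingCat.hom_ext (RingHom.ext fun c => (hc c).trans (hc' c).symm)
  rw [← hφ, ← hφ', e']

theorem IsAvgOn.enlarge {σ : Split H q M} {act : H ⊗ G ⟶ G} {x : Over.mk q ⟶ G} {x' : Spec B ⟶ G.left}
    {W W' : G.left.Opens} {hW : IsAffineOpen W} (h : IsAvgOn σ act x x' hW) (hW' : IsAffineOpen W') (hle : W ≤ W') :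
    IsAvgOn σ act x x' hW' := by
  obtain ⟨ψ, φ, hψ, hφ, hc⟩ := h
  refine ⟨G.left.presheaf.map (homOfLE hle).op ≫ ψ, G.left.presheaf.map (homOfLE hle).op ≫ φ, ?_, ?_,
    fun c => hc _⟩
  · rw [Spec.map_comp, Category.assoc, hW'.map_fromSpec hW, hψ]
  · rw [Spec.map_comp, Category.assoc, hW'.map_fromSpec hW, hφ]

theorem tr_comp_pt_left (σ : Split H q M) {B₁ B₂ : CommRingCat.{u}} (g : B₁ ⟶ B₂) (p : Spec B₁ ⟶ Spec B)
    (χ : Multiplicative M →* B₁) :
    Spec.map g ≫ (σ.pt B₁ p χ).left = (σ.pt B₂ (Spec.map g ≫ p) (g.hom.toMonoidHom.comp χ)).left := by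
  rw [← σ.nat]
  rfl

theorem Aw_comp (σ : Split H q M) (act : H ⊗ G ⟶ G) {V : Scheme.{u}} (g : V ⟶ Spec B) {q' : V ⟶ S} (hq : g ≫ q = q')
    {B' : CommRingCat.{u}} (p : Spec B' ⟶ V) (z : Spec B' ⟶ G.left) (hz : z ≫ G.hom = p ≫ q')
    (hz' : z ≫ G.hom = (p ≫ g) ≫ q) (χ : Multiplicative M →* B') :
    Aw (σ.comp g hq) act p z hz χ = Aw σ act (p ≫ g) z hz' χ := by
  let e : Over.mk (p ≫ q') ⟶ Over.mk ((p ≫ g) ≫ q) := Over.homMk (𝟙 _) (by simp [← hq])
  have h : lift ((σ.comp g hq).pt B' p χ) (Over.homMk z hz) = e ≫ lift (σ.pt B' (p ≫ g) χ) (Over.homMk z hz') := by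
    rw [comp_lift]
    congr 1
  show (lift ((σ.comp g hq).pt B' p χ) (Over.homMk z hz) ≫ act).left = _
  rw [h, Category.assoc]
  exact Category.id_comp _

theorem IsAvgOn.baseChange {σ : Split H q M} {act : H ⊗ G ⟶ G} {x : Over.mk q ⟶ G} {x' : Spec B ⟶ G.left}
    {W : G.left.Opens} {hW : IsAffineOpen W} (h : IsAvgOn σ act x x' hW) {B' : CommRingCat.{u}} (g : B ⟶ B')
    {q' : Spec B' ⟶ S} (hq : Spec.map g ≫ q = q') :
    IsAvgOn (σ.comp (Spec.map g) hq) act ((Over.homMk (Spec.map g) hq : Over.mk q' ⟶ Over.mk q) ≫ x)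
      (Spec.map g ≫ x') hW := by
  obtain ⟨ψ, φ, hψ, hφ, hc⟩ := h
  let m : CommRingCat.of (MonoidAlgebra B (Multiplicative M)) ⟶ CommRingCat.of (MonoidAlgebra B' (Multiplicative M)) :=
    CommRingCat.ofHom (MonoidAlgebra.mapRingHom _ g.hom)
  refine ⟨ψ ≫ m, φ ≫ g, ?_, by rw [Spec.map_comp, Category.assoc, hφ], fun c => ?_⟩
  · have hm : s1 B M ≫ m = g ≫ s1 B' M := CommRingCat.hom_ext (RingHom.ext fun c => by
      show MonoidAlgebra.mapRingHom _ g.hom (MonoidAlgebra.single 1 c) = MonoidAlgebra.single 1 (g.hom c)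
      exact MonoidAlgebra.mapRingHom_single _ _ _)
    have hof : m.hom.toMonoidHom.comp (MonoidAlgebra.of B (Multiplicative M)) =
        MonoidAlgebra.of B' (Multiplicative M) := MonoidHom.ext fun a => by
      show MonoidAlgebra.mapRingHom _ g.hom (MonoidAlgebra.single a 1) = MonoidAlgebra.single a 1
      rw [MonoidAlgebra.mapRingHom_single, map_one]
    have hp : Spec.map m ≫ Spec.map (s1 B M) = Spec.map (s1 B' M) ≫ Spec.map g := by
      rw [← Spec.map_comp, hm, Spec.map_comp]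
    rw [Spec.map_comp, Category.assoc, hψ]
    show Spec.map m ≫ Aw σ act _ _ _ _ = _
    rw [Aw_nat, hof]
    refine (Aw_congr σ act (z' := Spec.map (s1 B' M) ≫ (Spec.map g ≫ x.left)) _ ?_ _ hp ?_).trans ?_
    · rw [Category.assoc, Category.assoc]
      exact congrArg (fun z => Spec.map (s1 B' M) ≫ Spec.map g ≫ z) (Over.w x)
    · rw [← Category.assoc, hp, Category.assoc]
    · unfold univ
      exact (Aw_comp σ act (Spec.map g) hq (Spec.map (s1 B' M)) (Spec.map (s1 B' M) ≫ Spec.map g ≫ x.left) _ _ _).symm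
  · show g.hom (φ.hom c) = (MonoidAlgebra.mapRingHom _ g.hom (ψ.hom c)).coeff 1
    rw [hc]
    simp

/-- The two universal points of two splittings. -/
theorem exists_change (σ₁ : Split H q M) {M₂ : Type} [AddCommGroup M₂] (σ₂ : Split H q M₂) :
    ∃ Ψ : Multiplicative M₂ →* MonoidAlgebra B (Multiplicative M),
      σ₁.pt (CommRingCat.of (MonoidAlgebra B (Multiplicative M))) (Spec.map (s1 B M))
          (MonoidAlgebra.of B (Multiplicative M)) = σ₂.pt _ (Spec.map (s1 B M)) Ψ ∧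
      (∀ m, IsGL (Ψ m)) ∧
      ∀ (B' : CommRingCat.{u}) (f : B ⟶ B') (χ : Multiplicative M →* B'),
        σ₁.pt B' (Spec.map f) χ = σ₂.pt B' (Spec.map f) ((L f.hom χ).toMonoidHom.comp Ψ) := by
  let BM := CommRingCat.of (MonoidAlgebra B (Multiplicative M))
  obtain ⟨Ψ, hΨ⟩ := (σ₂.pt BM (Spec.map (s1 B M))).surjective
    (σ₁.pt BM (Spec.map (s1 B M)) (MonoidAlgebra.of B (Multiplicative M)))
  have key : ∀ (B' : CommRingCat.{u}) (f : B ⟶ B') (χ : Multiplicative M →* B'),
      σ₁.pt B' (Spec.map f) χ = σ₂.pt B' (Spec.map f) ((L f.hom χ).toMonoidHom.comp Ψ) := fun B' f χ => by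
    let g : BM ⟶ B' := CommRingCat.ofHom (L f.hom χ)
    have hg : Spec.map g ≫ Spec.map (s1 B M) = Spec.map f := by
      rw [← Spec.map_comp]
      exact congrArg Spec.map (CommRingCat.hom_ext (L_comp_single f.hom χ))
    have hχ : g.hom.toMonoidHom.comp (MonoidAlgebra.of B (Multiplicative M)) = χ := L_comp_of f.hom χ
    have e := congrArg (fun z => Spec.map g ≫ CommaMorphism.left z) hΨ
    simp only [tr_comp_pt_left] at e
    rw [hχ] at e
    apply Over.OverMorphism.ext
    have key' : ∀ {M' : Type} [AddCommGroup M'] (σ : Split H q M') (p p' : Spec B' ⟶ Spec B)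
        (χ' : Multiplicative M' →* B'), p = p' → (σ.pt B' p χ').left = (σ.pt B' p' χ').left := by
      rintro M' _ σ p p' χ' rfl; rfl
    rw [key' σ₁ _ _ _ hg.symm, key' σ₂ _ _ _ hg.symm]
    exact e.symm
  refine ⟨Ψ, hΨ.symm, fun m {B'} _ f χ χ' => ?_, key⟩
  let fc : B ⟶ CommRingCat.of B' := CommRingCat.ofHom f
  constructor
  · have h := key _ fc (χ * χ')
    rw [map_mul, key _ fc χ, key _ fc χ', ← map_mul] at h
    exact (DFunLike.congr_fun ((σ₂.pt _ _).injective h) m).symm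
  · have h := key _ fc 1
    rw [map_one, ← map_one (σ₂.pt (CommRingCat.of B') (Spec.map fc))] at h
    exact (DFunLike.congr_fun ((σ₂.pt _ _).injective h) m).symm

/-- The invariant component does not depend on the splitting. -/
theorem IsAvgOn.change {M₂ : Type} [AddCommGroup M₂] {σ₂ : Split H q M₂} {act : H ⊗ G ⟶ G} {x : Over.mk q ⟶ G}
    {x' : Spec B ⟶ G.left} {W : G.left.Opens} {hW : IsAffineOpen W} (h : IsAvgOn σ₂ act x x' hW)
    (σ₁ : Split H q M) : IsAvgOn σ₁ act x x' hW := by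
  obtain ⟨ψ, φ, hψ, hφ, hc⟩ := h
  obtain ⟨Ψ, hΨ, hGL, hkey⟩ := exists_change σ₁ σ₂
  obtain ⟨Ψ', hΨ', -, hkey'⟩ := exists_change σ₂ σ₁
  have hinv : ∀ m, L MonoidAlgebra.singleOneRingHom Ψ' (Ψ m) = MonoidAlgebra.single m 1 := fun m => by
    have e := hkey _ (s1 B M₂) Ψ'
    rw [← hΨ'] at e
    exact (DFunLike.congr_fun ((σ₂.pt _ _).injective e) m).symm
  let t : CommRingCat.of (MonoidAlgebra B (Multiplicative M₂)) ⟶ CommRingCat.of (MonoidAlgebra B (Multiplicative M)) :=
    CommRingCat.ofHom (L MonoidAlgebra.singleOneRingHom Ψ)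
  refine ⟨ψ ≫ t, φ, ?_, hφ, fun c => (hc c).trans (coeff_one_L Ψ hGL Ψ' hinv _).symm⟩
  have ht : Spec.map t ≫ Spec.map (s1 B M₂) = Spec.map (s1 B M) := by
    rw [← Spec.map_comp]
    exact congrArg Spec.map (CommRingCat.hom_ext (L_comp_single _ Ψ))
  have hof : t.hom.toMonoidHom.comp (MonoidAlgebra.of B (Multiplicative M₂)) = Ψ := L_comp_of _ Ψ
  rw [Spec.map_comp, Category.assoc, hψ]
  show Spec.map t ≫ Aw σ₂ act _ _ _ _ = _
  rw [Aw_nat, hof]
  refine (Aw_congr σ₂ act _ (by rw [Category.assoc]; exact congrArg (Spec.map (s1 B M) ≫ ·) (Over.w x)) _ ht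
    (by rw [← Category.assoc, ht] : _ = Spec.map (s1 B M) ≫ x.left)).trans ?_
  show (lift _ _ ≫ act).left = (lift _ _ ≫ act).left
  rw [hΨ]

end Groth.Agent.AvgPoint
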