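import Groth.Agent.AvgPoint.Coord
/-!
Near an affine open, the invariant component of the translate of a point which is fixed modulo a square-zero ideal is a
fixed point congruent to it.
-/

set_option autoImplicit false
set_option backward.isDefEq.respectTransparency false
set_option backward.isDefEq.respectTransparency.types false
set_option linter.style.haveILetI false

universe u

open CategoryTheory CategoryTheory.Limits MonoidalCategory CartesianMonoidalCategory MonObj AlgebraicGeometry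

noncomputable section

namespace Groth.Agent.AvgPoint

open FixedSmooth

variable {S : Scheme.{u}} {H G : Over S} [GrpObj H] {B : CommRingCat.{u}} {q : Spec B ⟶ S}

/-- The reduction along a ring map, as a map of relative schemes. -/
abbrev red {B' : CommRingCat.{u}} (q : Spec B ⟶ S) (g : B ⟶ B') : Over.mk (Spec.map g ≫ q) ⟶ Over.mk q :=
  Over.homMk (Spec.map g) rfl

/-- `x` becomes fixed after killing `N`. -/
def FixedMod (act : H ⊗ G ⟶ G) (N : Ideal B) (x : Over.mk q ⟶ G) : Prop :=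
  ∀ {B' : CommRingCat.{u}} (g : B ⟶ B'), N ≤ RingHom.ker g.hom → IsFixed act (red q g ≫ x)

/-- `x'` and `x` agree after killing `N`. -/
def CongrMod (N : Ideal B) (x x' : Spec B ⟶ G.left) : Prop :=
  ∀ {B' : CommRingCat.{u}} (g : B ⟶ B'), N ≤ RingHom.ker g.hom → Spec.map g ≫ x' = Spec.map g ≫ x

variable {M : Type} [AddCommGroup M]

theorem exists_avg_chart (act : H ⊗ G ⟶ G)
    (hact : ∀ (X : Over S) (h h' : X ⟶ H) (x : X ⟶ G),
      lift h (lift h' x ≫ act) ≫ act = lift (h * h') x ≫ act)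
    (σ : Split H q M) (N : Ideal B) (hN : N ^ 2 = ⊥) (x : Over.mk q ⟶ G) (hx : FixedMod act N x)
    (W : G.left.Opens) (hW : IsAffineOpen W) [IsAffine (pullback (W.ι ≫ G.hom) q)]
    (hxW : Set.range x.left ⊆ (W : Set G.left)) :
    ∃ x' : Over.mk q ⟶ G, IsAvgOn σ act x x'.left hW ∧ IsFixed act x' ∧ CongrMod N x.left x'.left := by
  let P := pullback (W.ι ≫ G.hom) q
  let C := Γ(P, ⊤)
  let κ : Spec C ⟶ P := P.isoSpec.inv
  let iC : B ⟶ C := Spec.preimage (κ ≫ pullback.snd (W.ι ≫ G.hom) q)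
  have hiC : Spec.map iC = κ ≫ pullback.snd (W.ι ≫ G.hom) q := Spec.map_preimage _
  let xW : Spec C ⟶ W.toScheme := κ ≫ pullback.fst (W.ι ≫ G.hom) q
  have hxu : (xW ≫ W.ι) ≫ G.hom = (Spec.map iC ≫ 𝟙 _) ≫ q := by
    simp only [xW, hiC, Category.assoc, Category.id_comp, pullback.condition]
  have hex : ∀ {B' : CommRingCat.{u}} (g : B ⟶ B') (z : Spec B' ⟶ W.toScheme),
      (z ≫ W.ι) ≫ G.hom = (Spec.map g ≫ 𝟙 _) ≫ q → ∃ φ : C ⟶ B', iC ≫ φ = g ∧ Spec.map φ ≫ xW = z :=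
    fun {B'} g z hz => by
    let l : Spec B' ⟶ P := pullback.lift z (Spec.map g) (by simpa [Category.assoc] using hz)
    refine ⟨Spec.preimage (l ≫ P.isoSpec.hom), Spec.map_injective ?_, ?_⟩
    · simp [hiC, κ, l]
    · simp [xW, κ, l]
  have huniqC : ∀ {B' : CommRingCat.{u}} (φ ψ : C ⟶ B'), iC ≫ φ = iC ≫ ψ →
      Spec.map φ ≫ xW ≫ W.ι = Spec.map ψ ≫ xW ≫ W.ι → φ = ψ := fun {B'} φ ψ h1 h2 => by
    apply Spec.map_injective
    rw [← cancel_mono κ]
    apply pullback.hom_ext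
    · rw [← cancel_mono W.ι]
      simpa [xW] using h2
    · have := congrArg Spec.map h1
      simpa [Spec.map_comp, hiC] using this
  -- the point in the chart
  have hxG : x.left ≫ G.hom = q := Over.w x
  let zx : Spec B ⟶ W.toScheme := IsOpenImmersion.lift W.ι x.left (by rw [Scheme.Opens.range_ι]; exact hxW)
  have hzx : zx ≫ W.ι = x.left := IsOpenImmersion.lift_fac _ _ _
  obtain ⟨φx, hφxi, hφxx⟩ := hex (𝟙 B) zx (by rw [hzx, hxG, Spec.map_id]; simp)
  have hφxu : Spec.map φx ≫ xW ≫ W.ι = x.left := by rw [reassoc_of% hφxx, hzx]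
  let π : B ⟶ CommRingCat.of (B ⧸ N) := CommRingCat.ofHom (Ideal.Quotient.mk N)
  have hπN : N ≤ RingHom.ker π.hom := by
    show N ≤ RingHom.ker (Ideal.Quotient.mk N)
    rw [Ideal.mk_ker]
  let πD : C ⟶ CommRingCat.of (B ⧸ N) := φx ≫ π
  have hπDi : iC ≫ πD = π := by simp only [πD, reassoc_of% hφxi]
  have hπDs : Function.Surjective πD.hom := fun d => by
    obtain ⟨r, rfl⟩ := Ideal.Quotient.mk_surjective d
    exact ⟨iC.hom r, congrArg (fun m => m.hom r) hπDi⟩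
  have hfix₀ : ∀ {p : Spec (CommRingCat.of (B ⧸ N)) ⟶ Spec B} (_ : p = Spec.map π) (y : Spec (CommRingCat.of (B ⧸ N)) ⟶ G.left)
      (hy : y ≫ G.hom = p ≫ q) (_ : y = Spec.map π ≫ x.left),
      IsFixed act (Over.homMk y hy : Over.mk (p ≫ q) ⟶ G) := by
    rintro p rfl y hy rfl
    exact hx π hπN
  have hDfix : IsFixed act (Over.homMk (Spec.map πD ≫ xW ≫ W.ι) (by
      simp only [Category.assoc] at hxu
      show (Spec.map πD ≫ xW ≫ W.ι) ≫ G.hom = (Spec.map πD ≫ Spec.map iC ≫ 𝟙 _) ≫ q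
      simp only [Category.assoc, hxu]) :
      Over.mk ((Spec.map πD ≫ Spec.map iC ≫ 𝟙 _) ≫ q) ⟶ G) :=
    hfix₀ (by rw [Category.comp_id, ← Spec.map_comp, hπDi]) _ _
      (by rw [show πD = φx ≫ π from rfl, Spec.map_comp, Category.assoc, hφxu])
  obtain ⟨C₂, π₂, ρ₂, hdesc, hepi, hρi, hz, hρx⟩ := exists_classifier act σ B (𝟙 _) W C iC xW hxu hex huniqC
    (CommRingCat.of (B ⧸ N)) πD hπDs hDfix
  obtain ⟨φ₂, hφ₂⟩ := hdesc φx N hN (Ideal.map_le_iff_le_comap.2 fun c hc => by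
    refine Ideal.mem_comap.2 (Ideal.Quotient.eq_zero_iff_mem.1 ?_)
    exact RingHom.mem_ker.1 hc)
  have hφ₂i : (iC ≫ π₂) ≫ φ₂ = 𝟙 B := by rw [Category.assoc, hφ₂, hφxi]
  have hxu₂ : (Spec.map π₂ ≫ xW ≫ W.ι) ≫ G.hom = (Spec.map (iC ≫ π₂) ≫ 𝟙 _) ≫ q := by
    simp only [Spec.map_comp, Category.assoc] at hxu ⊢
    rw [hxu]
  obtain ⟨φ', hq', hφ'π, hfix, hφ'c⟩ := fixed_lift_of_classifier act hact σ B (𝟙 _) N hN C₂ (iC ≫ π₂)
    (Spec.map π₂ ≫ xW ≫ W.ι) hxu₂ (fun φ ψ h1 h2 => hepi _ _ (huniqC _ _ (by simpa [Category.assoc] using h1)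
      (by simpa [Spec.map_comp, Category.assoc] using h2))) ρ₂ hρi hρx φ₂ hφ₂i
    (Over.homMk (Spec.map π ≫ x.left) ((Category.assoc _ _ _).trans (((congrArg (Spec.map π ≫ ·) hxG)).trans (congrArg (· ≫ q) (Category.comp_id (Spec.map π)).symm))))
    (hfix₀ (Category.comp_id _) _ _ rfl) (by
      show Spec.map (φ₂ ≫ π) ≫ Spec.map π₂ ≫ xW ≫ W.ι = Spec.map π ≫ x.left
      rw [← Category.assoc, ← Spec.map_comp, ← Category.assoc π₂, hφ₂, Spec.map_comp, Category.assoc, hφxu])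
  let ιc : Over.mk q ⟶ Over.mk (𝟙 (Spec B) ≫ q) := Over.homMk (𝟙 _) (by simp)
  refine ⟨ιc ≫ Over.homMk (Spec.map φ' ≫ Spec.map π₂ ≫ xW ≫ W.ι) hq', ?_,
    fun X' s h => by rw [← Category.assoc s]; exact hfix X' (s ≫ ιc) h, fun {B'} g hg => ?_⟩
  · -- the coordinates
    let jW : Γ(G.left, W) ⟶ C := Spec.preimage (xW ≫ hW.isoSpec.hom)
    have hjW : Spec.map jW ≫ hW.fromSpec = xW ≫ W.ι := by
      rw [Spec.map_preimage, ← hW.isoSpec_inv_ι, Category.assoc, Iso.hom_inv_id_assoc]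
    let CM := CommRingCat.of (MonoidAlgebra C₂ (Multiplicative M))
    let m : CM ⟶ CommRingCat.of (MonoidAlgebra B (Multiplicative M)) :=
      CommRingCat.ofHom (MonoidAlgebra.mapRingHom _ φ₂.hom)
    refine ⟨jW ≫ π₂ ≫ ρ₂ ≫ m, jW ≫ π₂ ≫ φ', ?_, ?_, fun c => ?_⟩
    · have hm : CommRingCat.ofHom MonoidAlgebra.singleOneRingHom ≫ m = φ₂ ≫ s1 B M :=
        CommRingCat.hom_ext (RingHom.ext fun c => by
          show MonoidAlgebra.mapRingHom _ φ₂.hom (MonoidAlgebra.single 1 c) = MonoidAlgebra.single 1 (φ₂.hom c)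
          exact MonoidAlgebra.mapRingHom_single _ _ _)
      have hof : m.hom.toMonoidHom.comp (MonoidAlgebra.of C₂ (Multiplicative M)) =
          MonoidAlgebra.of B (Multiplicative M) := MonoidHom.ext fun a => by
        show MonoidAlgebra.mapRingHom _ φ₂.hom (MonoidAlgebra.single a 1) = MonoidAlgebra.single a 1
        rw [MonoidAlgebra.mapRingHom_single, map_one]
      simp only [Spec.map_comp, Category.assoc, hjW]
      rw [hρx]
      show Spec.map m ≫ Aw σ act _ _ _ _ = _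
      rw [Aw_nat, hof]
      have e1 : Spec.map m ≫ Spec.map (CommRingCat.ofHom MonoidAlgebra.singleOneRingHom) = Spec.map (s1 B M) ≫ Spec.map φ₂ := by
        rw [← Spec.map_comp, hm, Spec.map_comp]
      apply Aw_congr
      · rw [reassoc_of% e1, ← Category.assoc (Spec.map φ₂), ← Spec.map_comp, hφ₂i, Spec.map_id, Category.id_comp,
          Category.comp_id]
      · rw [reassoc_of% e1, ← Category.assoc (Spec.map φ₂), ← Spec.map_comp, hφ₂, hφxu]
    · show _ = 𝟙 _ ≫ Spec.map φ' ≫ Spec.map π₂ ≫ xW ≫ W.ι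
      simp only [Spec.map_comp, Category.assoc, hjW, Category.id_comp]
    · show φ'.hom (π₂.hom (jW.hom c)) = (MonoidAlgebra.mapRingHom _ φ₂.hom (ρ₂.hom (π₂.hom (jW.hom c)))).coeff 1
      rw [hφ'c]
      simp [avg]
  · -- congruence
    have e : φ' ≫ g = φ₂ ≫ g := CommRingCat.hom_ext (RingHom.ext fun c => by
      have h1 : Ideal.Quotient.mk N (φ'.hom c) = Ideal.Quotient.mk N (φ₂.hom c) := congrArg (fun m => m.hom c) hφ'π
      have h2 := hg (Ideal.Quotient.eq.1 h1)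
      rw [RingHom.mem_ker, map_sub, sub_eq_zero] at h2
      exact h2)
    show Spec.map g ≫ 𝟙 _ ≫ Spec.map φ' ≫ Spec.map π₂ ≫ xW ≫ W.ι = Spec.map g ≫ x.left
    rw [Category.id_comp, ← Category.assoc, ← Spec.map_comp, e, Spec.map_comp, Category.assoc,
      ← Category.assoc (Spec.map φ₂), ← Spec.map_comp, hφ₂, hφxu]

end Groth.Agent.AvgPoint
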