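import Groth.Agent.AvgPoint.Chart
/-!
A point fixed modulo a square-zero ideal is congruent to a fixed point.
-/

set_option autoImplicit false
set_option backward.isDefEq.respectTransparency false
set_option backward.isDefEq.respectTransparency.types false
set_option linter.style.haveILetI false

universe u

open CategoryTheory CategoryTheory.Limits MonoidalCategory CartesianMonoidalCategory MonObj AlgebraicGeometry

noncomputable section

namespace Groth.Agent.AvgPoint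

open FixedSmooth

variable {R : CommRingCat.{u}} {H G : Over (Spec R)} [GrpObj H]

theorem isFixed_comp {act : H ⊗ G ⟶ G} {X Y : Over (Spec R)} {x : X ⟶ G} (h : IsFixed act x) (k : Y ⟶ X) :
    IsFixed act (k ≫ x) := fun X' s l => by
  rw [← Category.assoc s]
  exact h X' (s ≫ k) l

theorem FixedMod.baseChange {act : H ⊗ G ⟶ G} {B : CommRingCat.{u}} {q : Spec B ⟶ Spec R} {N : Ideal B}
    {x : Over.mk q ⟶ G} (hx : FixedMod act N x) {B' : CommRingCat.{u}} (g : B ⟶ B') {q' : Spec B' ⟶ Spec R}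
    (hq : Spec.map g ≫ q = q') :
    FixedMod act (N.map g.hom) ((Over.homMk (Spec.map g) hq : Over.mk q' ⟶ Over.mk q) ≫ x) := fun {B''} g' hg' => by
  subst hq
  let k : Over.mk (Spec.map g' ≫ Spec.map g ≫ q) ⟶ Over.mk (Spec.map (g ≫ g') ≫ q) :=
    Over.homMk (𝟙 _) (by simp [Spec.map_comp])
  have e : red (Spec.map g ≫ q) g' ≫ (Over.homMk (Spec.map g) rfl : Over.mk (Spec.map g ≫ q) ⟶ Over.mk q) ≫ x =
      k ≫ red q (g ≫ g') ≫ x := by
    apply Over.OverMorphism.ext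
    show Spec.map g' ≫ Spec.map g ≫ x.left = 𝟙 _ ≫ Spec.map (g ≫ g') ≫ x.left
    rw [Category.id_comp, Spec.map_comp, Category.assoc]
  rw [e]
  exact isFixed_comp (hx (g ≫ g') fun r hr => hg' (Ideal.mem_map_of_mem _ hr)) k

theorem eq_on_open {Z Y : Scheme.{u}} {D : Z.Opens} (hD : IsAffineOpen D) {f g : Z ⟶ Y}
    (h : hD.fromSpec ≫ f = hD.fromSpec ≫ g) : D.ι ≫ f = D.ι ≫ g := by
  rw [← cancel_epi hD.isoSpec.inv]
  simpa only [← Category.assoc, hD.isoSpec_inv_ι] using h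

variable {B : CommRingCat.{u}} {q : Spec B ⟶ Spec R}

/-- Averages on two pieces agree where they meet. -/
theorem avg_agree (act : H ⊗ G ⟶ G)
    (hact : ∀ (X : Over (Spec R)) (h h' : X ⟶ H) (x : X ⟶ G),
      lift h (lift h' x ≫ act) ≫ act = lift (h * h') x ≫ act)
    (N : Ideal B) (hN : N ^ 2 = ⊥) (x : Over.mk q ⟶ G) (hx : FixedMod act N x)
    {B₁ B₂ : CommRingCat.{u}} (g₁ : B ⟶ B₁) (g₂ : B ⟶ B₂) {q₁ : Spec B₁ ⟶ Spec R} {q₂ : Spec B₂ ⟶ Spec R}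
    (hq₁ : Spec.map g₁ ≫ q = q₁) (hq₂ : Spec.map g₂ ≫ q = q₂)
    {M₁ M₂ : Type} [AddCommGroup M₁] [AddCommGroup M₂] (σ₁ : Split H q₁ M₁) (σ₂ : Split H q₂ M₂)
    {x₁ : Spec B₁ ⟶ G.left} {x₂ : Spec B₂ ⟶ G.left} {W₁ W₂ : G.left.Opens} {hW₁ : IsAffineOpen W₁}
    {hW₂ : IsAffineOpen W₂}
    (hr₁ : Set.range (Spec.map g₁ ≫ x.left) ⊆ (W₁ : Set G.left))
    (hr₂ : Set.range (Spec.map g₂ ≫ x.left) ⊆ (W₂ : Set G.left))
    (h₁ : IsAvgOn σ₁ act ((Over.homMk (Spec.map g₁) hq₁ : Over.mk q₁ ⟶ Over.mk q) ≫ x) x₁ hW₁)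
    (h₂ : IsAvgOn σ₂ act ((Over.homMk (Spec.map g₂) hq₂ : Over.mk q₂ ⟶ Over.mk q) ≫ x) x₂ hW₂)
    {B' : CommRingCat.{u}} (a : B₁ ⟶ B') (b : B₂ ⟶ B') (hab : g₁ ≫ a = g₂ ≫ b) :
    Spec.map a ≫ x₁ = Spec.map b ≫ x₂ := by
  refine Scheme.hom_ext_of_forall _ _ fun p => ?_
  have he : Spec.map a ≫ Spec.map g₁ = Spec.map b ≫ Spec.map g₂ := by
    rw [← Spec.map_comp, hab, Spec.map_comp]
  let t := (Spec.map a ≫ Spec.map g₁ ≫ x.left) p
  have ht₁ : t ∈ W₁ := hr₁ ⟨Spec.map a p, (Scheme.Hom.comp_apply _ _ _).symm⟩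
  have ht₂ : t ∈ W₂ := by
    refine hr₂ ⟨Spec.map b p, ?_⟩
    show _ = (Spec.map a ≫ Spec.map g₁ ≫ x.left) p
    rw [← Category.assoc, he, Category.assoc]
    exact (Scheme.Hom.comp_apply _ _ _).symm
  obtain ⟨W, hW, htW, hWle⟩ := exists_isAffineOpen_mem_and_subset (x := t) (U := W₁ ⊓ W₂) ⟨ht₁, ht₂⟩
  obtain ⟨D, hD, hpD, hDW⟩ := exists_isAffineOpen_mem_and_subset (x := p)
    (U := (Spec.map a ≫ Spec.map g₁ ≫ x.left) ⁻¹ᵁ W) htW
  refine ⟨D, hpD, ?_⟩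
  let B₃ : CommRingCat.{u} := Γ(Spec B', D)
  let r : B' ⟶ B₃ := Spec.preimage hD.fromSpec
  have hr : Spec.map r = hD.fromSpec := Spec.map_preimage _
  suffices h : Spec.map (a ≫ r) ≫ x₁ = Spec.map (b ≫ r) ≫ x₂ by
    refine eq_on_open hD ?_
    simpa only [Spec.map_comp, hr, Category.assoc] using h
  let g₃ : B ⟶ B₃ := g₁ ≫ a ≫ r
  let q₃ : Spec B₃ ⟶ Spec R := Spec.map g₃ ≫ q
  have e₁ : Spec.map (a ≫ r) ≫ q₁ = q₃ := by
    rw [← hq₁, ← Category.assoc, ← Spec.map_comp]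
  have e₂ : Spec.map (b ≫ r) ≫ q₂ = q₃ := by
    rw [← hq₂, ← Category.assoc, ← Spec.map_comp, ← Category.assoc g₂, ← hab, Category.assoc]
  let w₃ : Over.mk q₃ ⟶ Over.mk q := Over.homMk (Spec.map g₃) rfl
  have hx₃ : Set.range (w₃ ≫ x).left ⊆ (W : Set G.left) := by
    rintro _ ⟨s, rfl⟩
    show (Spec.map g₃ ≫ x.left) s ∈ W
    have : Spec.map g₃ ≫ x.left = hD.fromSpec ≫ Spec.map a ≫ Spec.map g₁ ≫ x.left := by
      simp only [g₃, Spec.map_comp, hr, Category.assoc]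
    rw [this, Scheme.Hom.comp_apply]
    exact hDW (hD.range_fromSpec.subset ⟨s, rfl⟩)
  haveI : IsAffine W.toScheme := hW
  obtain ⟨x₃, h₃, -, -⟩ := exists_avg_chart act hact (σ₁.comp (Spec.map (a ≫ r)) e₁) (N.map g₃.hom)
    (by rw [← Ideal.map_pow, hN, Ideal.map_bot]) (w₃ ≫ x) (hx.baseChange g₃ rfl) W hW hx₃
  have hw₁ : (Over.homMk (Spec.map (a ≫ r)) e₁ : Over.mk q₃ ⟶ Over.mk q₁) ≫
      (Over.homMk (Spec.map g₁) hq₁ : Over.mk q₁ ⟶ Over.mk q) ≫ x = w₃ ≫ x := by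
    apply Over.OverMorphism.ext
    show Spec.map (a ≫ r) ≫ Spec.map g₁ ≫ x.left = Spec.map g₃ ≫ x.left
    simp only [g₃, Spec.map_comp, Category.assoc]
  have hw₂ : (Over.homMk (Spec.map (b ≫ r)) e₂ : Over.mk q₃ ⟶ Over.mk q₂) ≫
      (Over.homMk (Spec.map g₂) hq₂ : Over.mk q₂ ⟶ Over.mk q) ≫ x = w₃ ≫ x := by
    apply Over.OverMorphism.ext
    show Spec.map (b ≫ r) ≫ Spec.map g₂ ≫ x.left = Spec.map g₃ ≫ x.left
    simp only [g₃, Spec.map_comp, Category.assoc, reassoc_of% he]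
  have k₁ := h₁.baseChange (a ≫ r) e₁
  have k₂ := h₂.baseChange (b ≫ r) e₂
  rw [hw₁] at k₁
  rw [hw₂] at k₂
  rw [k₁.eq (h₃.enlarge hW₁ (hWle.trans inf_le_left)),
    k₂.eq ((h₃.change (σ₂.comp (Spec.map (b ≫ r)) e₂)).enlarge hW₂ (hWle.trans inf_le_right))]

/-- A point fixed modulo a square-zero ideal is congruent to a fixed point. -/
theorem exists_fixed_congr (hH : TrivAct.HasSplitCovers H) (act : H ⊗ G ⟶ G)
    (hact : ∀ (X : Over (Spec R)) (h h' : X ⟶ H) (x : X ⟶ G),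
      lift h (lift h' x ≫ act) ≫ act = lift (h * h') x ≫ act)
    (N : Ideal B) (hN : N ^ 2 = ⊥) (x : Over.mk q ⟶ G) (hx : FixedMod act N x) :
    ∃ x' : Over.mk q ⟶ G, IsFixed act x' ∧ CongrMod N x.left x'.left := by
  obtain ⟨κ, _, A, hA, gA, hgA, hsA, hσ⟩ := hH ⊤ (isAffineOpen_top _)
  haveI := hA; haveI := hgA
  have hch : ∀ t : Spec B, ∃ (W : G.left.Opens) (D : (Spec B).Opens),
      IsAffineOpen W ∧ IsAffineOpen D ∧ t ∈ D ∧ D ≤ x.left ⁻¹ᵁ W := fun t => by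
    obtain ⟨W, hW, htW, -⟩ := exists_isAffineOpen_mem_and_subset (x := x.left t) (U := ⊤) trivial
    obtain ⟨D, hD, htD, hle⟩ := exists_isAffineOpen_mem_and_subset (x := t) (U := x.left ⁻¹ᵁ W) htW
    exact ⟨W, D, hW, hD, htD, hle⟩
  choose W D hW hD htD hDW using hch
  obtain ⟨s, hs⟩ := isCompact_univ.elim_finite_subcover (fun t => (D t : Set (Spec B))) (fun t => (D t).2)
    fun t _ => Set.mem_iUnion.2 ⟨t, htD t⟩
  let ι' := ↥s × κ
  let a : ∀ k, A k ⟶ Spec R := fun k => gA k ≫ (⊤ : (Spec R).Opens).ι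
  let P : ι' → Scheme.{u} := fun i => pullback (a i.2) ((hD i.1.1).fromSpec ≫ q)
  haveI : ∀ i, IsAffine (P i) := fun i => inferInstanceAs (IsAffine (pullback _ _))
  let Bi : ι' → CommRingCat.{u} := fun i => Γ(P i, ⊤)
  let fi : ∀ i, Spec (Bi i) ⟶ Spec B := fun i =>
    (P i).isoSpec.inv ≫ pullback.snd (a i.2) ((hD i.1.1).fromSpec ≫ q) ≫ (hD i.1.1).fromSpec
  let gi : ∀ i, B ⟶ Bi i := fun i => Spec.preimage (fi i)
  let qi : ∀ i, Spec (Bi i) ⟶ Spec R := fun i => (P i).isoSpec.inv ≫ pullback.fst _ _ ≫ a i.2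
  have hgi : ∀ i, Spec.map (gi i) = fi i := fun i => Spec.map_preimage _
  have hqi : ∀ i, Spec.map (gi i) ≫ q = qi i := fun i => by
    rw [hgi]; simp only [fi, qi, Category.assoc, pullback.condition]
  have hri : ∀ i : ι', Set.range (Spec.map (gi i) ≫ x.left) ⊆ (W i.1.1 : Set G.left) := fun i => by
    rintro _ ⟨p, rfl⟩
    rw [hgi, show fi i ≫ x.left = ((P i).isoSpec.inv ≫ pullback.snd _ _) ≫ (hD i.1.1).fromSpec ≫ x.left from by
      simp [fi], Scheme.Hom.comp_apply, Scheme.Hom.comp_apply]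
    exact hDW _ ((hD i.1.1).range_fromSpec.subset ⟨_, rfl⟩)
  have hpt : ∀ i : ι', ∃ (M : Type) (_ : AddCommGroup M) (σ : Split H (qi i) M) (xi : Over.mk (qi i) ⟶ G),
      IsAvgOn σ act ((Over.homMk (Spec.map (gi i)) (hqi i) : Over.mk (qi i) ⟶ Over.mk q) ≫ x) xi.left (hW i.1.1) ∧
      IsFixed act xi ∧ CongrMod (N.map (gi i).hom) (Spec.map (gi i) ≫ x.left) xi.left := fun i => by
    obtain ⟨M, _, ⟨σ⟩⟩ := hσ i.2
    haveI : IsAffine (W i.1.1).toScheme := hW _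
    let σi : Split H (qi i) M := σ.comp ((P i).isoSpec.inv ≫ pullback.fst _ _) (Category.assoc _ _ _)
    obtain ⟨xi, h1, h2, h3⟩ := exists_avg_chart act hact σi (N.map (gi i).hom)
      (by rw [← Ideal.map_pow, hN, Ideal.map_bot])
      ((Over.homMk (Spec.map (gi i)) (hqi i) : Over.mk (qi i) ⟶ Over.mk q) ≫ x) (hx.baseChange (gi i) (hqi i))
      (W i.1.1) (hW _) (hri i)
    exact ⟨M, inferInstance, σi, xi, h1, h2, h3⟩
  choose M instM σ xi havg hfix hcong using hpt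
  letI := instM
  let T : Scheme.{u} := ∐ fun i => Spec (Bi i)
  let π : T ⟶ Spec B := Sigma.desc fun i => Spec.map (gi i)
  let f : T ⟶ G.left := Sigma.desc fun i => (xi i).left
  haveI : Flat π := by
    haveI : IsZariskiLocalAtSource (@Flat.{u}) :=
      HasRingHomProperty.instIsZariskiLocalAtSource.{u} (Q := RingHom.Flat)
    refine IsZariskiLocalAtSource.sigmaDesc fun i => ?_
    rw [hgi]
    haveI : Flat (a i.2) := inferInstance
    infer_instance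
  haveI : Surjective π := ⟨fun t => by
    obtain ⟨t₀, ht₀, htD'⟩ := Set.mem_iUnion₂.1 (hs (Set.mem_univ t))
    obtain ⟨t', rfl⟩ := (hD t₀).range_fromSpec.superset htD'
    obtain ⟨k, c, hc⟩ := hsA ⟨q ((hD t₀).fromSpec t'), trivial⟩
    obtain ⟨z, -, hz⟩ := Scheme.Pullback.exists_preimage_pullback (f := a k) (g := (hD t₀).fromSpec ≫ q) c t' (by
      simp only [a, Scheme.Hom.comp_apply, hc]; rfl)
    refine ⟨Sigma.ι (fun i => Spec (Bi i)) (⟨t₀, ht₀⟩, k) ((P (⟨t₀, ht₀⟩, k)).isoSpec.hom z), ?_⟩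
    erw [← Scheme.Hom.comp_apply, Sigma.ι_desc]
    rw [hgi]
    show ((P (⟨t₀, ht₀⟩, k)).isoSpec.inv ≫ pullback.snd _ _ ≫ (hD t₀).fromSpec) ((P (⟨t₀, ht₀⟩, k)).isoSpec.hom z) = _
    rw [← Scheme.Hom.comp_apply, Iso.hom_inv_id_assoc, Scheme.Hom.comp_apply, hz]⟩
  haveI : IsAffine T := inferInstanceAs (IsAffine (∐ fun i => Spec (Bi i)))
  haveI : IsRegularEpi π := isRegularEpi_of_flat_of_surjective_of_isAffine π
  have hπι : ∀ i, Sigma.ι (fun i => Spec (Bi i)) i ≫ π = Spec.map (gi i) := fun i => Sigma.ι_desc _ _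
  have hfι : ∀ i, Sigma.ι (fun i => Spec (Bi i)) i ≫ f = (xi i).left := fun i => Sigma.ι_desc _ _
  have hloc : ∀ {Z : Scheme.{u}} (z₁ z₂ : Z ⟶ T) (z : Z), ∃ (Dz : Z.Opens) (hDz : IsAffineOpen Dz), z ∈ Dz ∧
      ∃ (i j : ι') (b₁ : Bi i ⟶ Γ(Z, Dz)) (b₂ : Bi j ⟶ Γ(Z, Dz)),
        hDz.fromSpec ≫ z₁ = Spec.map b₁ ≫ Sigma.ι (fun i => Spec (Bi i)) i ∧
        hDz.fromSpec ≫ z₂ = Spec.map b₂ ≫ Sigma.ι (fun i => Spec (Bi i)) j := by
    intro Z z₁ z₂ z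
    obtain ⟨i, hi⟩ := (sigmaOpenCover fun i => Spec (Bi i)).exists_eq (z₁ z)
    obtain ⟨j, hj⟩ := (sigmaOpenCover fun i => Spec (Bi i)).exists_eq (z₂ z)
    let O₁ := (Sigma.ι (fun i => Spec (Bi i)) i).opensRange
    let O₂ := (Sigma.ι (fun i => Spec (Bi i)) j).opensRange
    obtain ⟨Dz, hDz, hzD, hle⟩ := exists_isAffineOpen_mem_and_subset (x := z) (U := z₁ ⁻¹ᵁ O₁ ⊓ z₂ ⁻¹ᵁ O₂) ⟨hi, hj⟩
    refine ⟨Dz, hDz, hzD, i, j, Spec.preimage (IsOpenImmersion.lift (Sigma.ι (fun i => Spec (Bi i)) i)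
      (hDz.fromSpec ≫ z₁) ?_), Spec.preimage (IsOpenImmersion.lift (Sigma.ι (fun i => Spec (Bi i)) j)
      (hDz.fromSpec ≫ z₂) ?_), by rw [Spec.map_preimage, IsOpenImmersion.lift_fac],
      by rw [Spec.map_preimage, IsOpenImmersion.lift_fac]⟩
    · rintro _ ⟨p, rfl⟩
      rw [Scheme.Hom.comp_apply]
      exact (hle (hDz.range_fromSpec.subset ⟨p, rfl⟩)).1
    · rintro _ ⟨p, rfl⟩
      rw [Scheme.Hom.comp_apply]
      exact (hle (hDz.range_fromSpec.subset ⟨p, rfl⟩)).2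
  have hcompat : ∀ {Z : Scheme.{u}} (z₁ z₂ : Z ⟶ T), z₁ ≫ π = z₂ ≫ π → z₁ ≫ f = z₂ ≫ f := fun {Z} z₁ z₂ h => by
    refine Scheme.hom_ext_of_forall _ _ fun z => ?_
    obtain ⟨Dz, hDz, hzD, i, j, b₁, b₂, e₁, e₂⟩ := hloc z₁ z₂ z
    refine ⟨Dz, hzD, ?_⟩
    refine eq_on_open hDz ?_
    rw [reassoc_of% e₁, reassoc_of% e₂, hfι, hfι]
    refine avg_agree act hact N hN x hx (gi i) (gi j) (hqi i) (hqi j) (σ i) (σ j) (hri i) (hri j) (havg i) (havg j)
      b₁ b₂ (Spec.map_injective ?_)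
    have := congrArg (hDz.fromSpec ≫ ·) h
    simp only [reassoc_of% e₁, reassoc_of% e₂, hπι] at this
    simpa only [Spec.map_comp] using this
  obtain ⟨x', hx'⟩ : ∃ x' : Spec B ⟶ G.left, π ≫ x' = f :=
    ⟨EffectiveEpi.desc π f (fun g₁ g₂ h => hcompat g₁ g₂ h), EffectiveEpi.fac _ _ _⟩
  haveI : Epi π := Flat.epi_of_flat_of_surjective _
  have hx'q : x' ≫ G.hom = q := by
    rw [← cancel_epi π, reassoc_of% hx']
    refine Sigma.hom_ext _ _ fun i => ?_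
    rw [reassoc_of% hfι, reassoc_of% hπι, hqi]
    exact Over.w (xi i)
  refine ⟨Over.homMk x' hx'q, fun X' s h => ?_, fun {B'} g hg => ?_⟩
  · apply Over.OverMorphism.ext
    haveI : Epi (pullback.snd π s.left) := Flat.epi_of_flat_of_surjective _
    rw [← cancel_epi (pullback.snd π s.left)]
    refine Scheme.hom_ext_of_forall _ _ fun z => ?_
    obtain ⟨Dz, hDz, hzD, i, -, b₁, -, e₁, -⟩ := hloc (pullback.fst π s.left) (pullback.fst π s.left) z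
    refine ⟨Dz, hzD, ?_⟩
    let c : Spec Γ(pullback π s.left, Dz) ⟶ X'.left := hDz.fromSpec ≫ pullback.snd π s.left
    have hc : c ≫ s.left = Spec.map b₁ ≫ Spec.map (gi i) := by
      simp only [c, Category.assoc, ← pullback.condition]
      rw [reassoc_of% e₁, hπι]
    let w : Over.mk (Spec.map b₁ ≫ qi i) ⟶ X' := Over.homMk c (by
      show c ≫ X'.hom = Spec.map b₁ ≫ qi i
      rw [← hqi, ← reassoc_of% hc, ← Over.w s]
      rfl)
    let si : Over.mk (Spec.map b₁ ≫ qi i) ⟶ Over.mk (qi i) := Over.homMk (Spec.map b₁) rfl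
    have hsi : si ≫ xi i = w ≫ s ≫ Over.homMk x' hx'q := by
      apply Over.OverMorphism.ext
      show Spec.map b₁ ≫ (xi i).left = c ≫ s.left ≫ x'
      rw [reassoc_of% hc, ← hπι, Category.assoc, hx', hfι]
    have := hfix i _ si (w ≫ h)
    rw [hsi, ← comp_lift] at this
    have e : (c ≫ (lift h (s ≫ Over.homMk x' hx'q)).left) ≫ act.left = c ≫ (s ≫ Over.homMk x' hx'q).left :=
      congrArg CommaMorphism.left this
    refine eq_on_open hDz ?_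
    simpa [c, Category.assoc] using e
  · show Spec.map g ≫ x' = Spec.map g ≫ x.left
    haveI : Epi (pullback.snd π (Spec.map g)) := Flat.epi_of_flat_of_surjective _
    rw [← cancel_epi (pullback.snd π (Spec.map g)), ← pullback.condition_assoc, hx', ← pullback.condition_assoc]
    refine Scheme.hom_ext_of_forall _ _ fun z => ?_
    obtain ⟨Dz, hDz, hzD, i, -, b₁, -, e₁, -⟩ :=
      hloc (pullback.fst π (Spec.map g)) (pullback.fst π (Spec.map g)) z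
    refine ⟨Dz, hzD, ?_⟩
    refine eq_on_open hDz ?_
    rw [reassoc_of% e₁, reassoc_of% e₁, hfι, reassoc_of% hπι]
    obtain ⟨c, hc⟩ := Spec.map_surjective (hDz.fromSpec ≫ pullback.snd π (Spec.map g))
    have hgc : gi i ≫ b₁ = g ≫ c := Spec.map_injective (by
      rw [Spec.map_comp, Spec.map_comp, hc, Category.assoc, ← pullback.condition, reassoc_of% e₁, hπι])
    refine hcong i b₁ (Ideal.map_le_iff_le_comap.2 fun r hr => ?_)
    show b₁.hom ((gi i).hom r) = 0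
    have := congrArg (fun m => m.hom r) hgc
    simp only [CommRingCat.hom_comp, RingHom.comp_apply] at this
    rw [this, RingHom.mem_ker.1 (hg hr), map_zero]

end Groth.Agent.AvgPoint
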